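import Cfsg.Agent.H296.FN.PspDeg
import Cfsg.Agent.H333.F4J.Ad
import Cfsg.Agent.H209.EPX.Defs
import Cfsg.Agent.OrdDiv.Main

/-!
# S5745, row `F₄(9)`, `T = Sp₈(2)` (helper296)

`no_psp`: `F₄(F)` of characteristic `≠ 2` has no subgroup `PSp₈(2^k)` (`F₄` has a faithful module of dimension 27).
-/

set_option autoImplicit false

namespace Cfsg.Agent.H296.FN

open Module Cfsg Cfsg.Lie
open Cfsg.Agent.ChevalleyStructure.E6Min.Tables Cfsg.Agent.ChevalleyStructure.E6Min.Basic

universe u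

/-- the 27-dimensional module of `F₄` is faithful -/
theorem exists_end (F : Type u) [Field F] :
    ∃ ρ : ↥(chevF4.group F) →* Module.End F (I27 → F), Function.Injective ρ := by
  let j : ↥(chevF4.group F) →* GL I27 F :=
    (Cfsg.Agent.H333.F4J.Ad.FZ F).subtype.comp (Cfsg.Agent.H333.F4J.Ad.eqv F).symm.toMonoidHom
  have hj : Function.Injective j :=
    (Cfsg.Agent.H333.F4J.Ad.FZ F).subtype_injective.comp (Cfsg.Agent.H333.F4J.Ad.eqv F).symm.injective
  refine ⟨((Matrix.toLinAlgEquiv' : Matrix I27 I27 F ≃ₐ[F] ((I27 → F) →ₗ[F] (I27 → F))) : Matrix I27 I27 F →* _).comp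
    ((Units.coeHom (Matrix I27 I27 F)).comp j), ?_⟩
  intro a b e
  apply hj
  apply Units.ext
  exact (Matrix.toLinAlgEquiv' : Matrix I27 I27 F ≃ₐ[F] ((I27 → F) →ₗ[F] (I27 → F))).injective e

/-- no `PSp₈(2^k)` in `F₄` of odd or zero characteristic -/
theorem no_psp (F : Type u) [Field F] (h2 : (2 : F) ≠ 0) (K : Type*) [Field K] [CharP K 2]
    (φ : PSp 4 K →* ↥(chevF4.group F)) (hφ : Function.Injective φ) : False := by
  obtain ⟨ρ, hρ⟩ := exists_end F
  have h1 := psp_deg K h2 (ρ.comp φ) (hρ.comp hφ)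
  rw [Module.finrank_fintype_fun_eq_card] at h1
  have h3 : Fintype.card I27 = 27 := by decide
  omega

/-- **row `F₄(9)`, `T = Sp₈(2)`** (all odd `q`, all `Sp₈(2^k)`) -/
theorem f4_psp {F : Type} [Field F] [Fintype F] (hF : Odd (Fintype.card F)) {N : Subgroup ↥(Lie.chevF4.group F)}
    {T : Type} [Group T] (e : N ≃* (Fin 1 → T)) {q : ℕ} (hq : Even q) (hT : OrdDiv.Real (.psp 4 q) T) : False := by
  obtain ⟨K, iK, iK', hK, ⟨g⟩⟩ := hT
  have hp : CharP K 2 := by
    obtain ⟨p, hp⟩ := CharP.exists K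
    obtain ⟨n, hpp, hn⟩ := FiniteField.card K p
    have h1 : Even (p ^ (n : ℕ)) := by rw [← hn, hK]; exact hq
    have h3 : p = 2 := by
      by_contra h
      exact (Nat.not_even_iff_odd.2 ((hpp.odd_of_ne_two h).pow)) h1
    exact h3 ▸ hp
  have h2 : (2 : F) ≠ 0 := by
    intro h0
    obtain ⟨p, hp⟩ := CharP.exists F
    obtain ⟨n, hpp, hn⟩ := FiniteField.card F p
    have h1 : p ∣ 2 := by
      have := (CharP.cast_eq_zero_iff F p 2).1 (by exact_mod_cast h0)
      exact this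
    have h3 : p = 2 := (Nat.prime_dvd_prime_iff_eq hpp Nat.prime_two).1 h1
    rw [hn, h3] at hF
    exact (Nat.not_odd_iff_even.2 ((Nat.even_pow.2 ⟨even_two, n.ne_zero⟩))) hF
  let c : T →* (Fin 1 → T) := Pi.constMonoidHom (Fin 1) T
  have hc : Function.Injective c := fun a b h => congrFun h 0
  exact no_psp F h2 K (N.subtype.comp (e.symm.toMonoidHom.comp (c.comp g.symm.toMonoidHom)))
    (N.subtype_injective.comp (e.symm.injective.comp (hc.comp g.symm.injective)))

/-- the row in the shape of the board of S5745 -/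
theorem f4_nine (F : Type) [Field F] [Fintype F] (hF : Fintype.card F = 9) {H N : Subgroup ↥(Lie.chevF4.group F)}
    {T : Type} [Group T] (e : N ≃* (Fin 1 → T)) (h : H209.EPX.EPS H N e) (hT : OrdDiv.Real (.psp 4 2) T) : False :=
  f4_psp (by rw [hF]; decide) e (by decide) hT

end Cfsg.Agent.H296.FN
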