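import Mathlib

/-!
# S5745: an elementary abelian subgroup `2^{9}` of `PSL₆(2^k)` (helper296)
-/

set_option autoImplicit false

namespace Cfsg.Agent.H296.FN

open Matrix

variable {K : Type*} [Field K]

/-- the index set -/
def s6 : Fin 3 ⊕ Fin 3 ≃ Fin 6 := finSumFinEquiv

/-- the block matrix -/
def um (X : Matrix (Fin 3) (Fin 3) K) : Matrix (Fin 6) (Fin 6) K :=
  Matrix.reindex s6 s6 (Matrix.fromBlocks 1 X 0 1)

theorem um_zero : um (0 : Matrix (Fin 3) (Fin 3) K) = 1 := by
  rw [um, Matrix.fromBlocks_one, Matrix.reindex_apply, Matrix.submatrix_one_equiv]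

theorem um_add (X Y : Matrix (Fin 3) (Fin 3) K) : um (X + Y) = um X * um Y := by
  rw [um, um, um, Matrix.reindex_apply, Matrix.reindex_apply, Matrix.reindex_apply, Matrix.submatrix_mul_equiv,
    Matrix.fromBlocks_multiply]
  simp [add_comm]

theorem um_det (X : Matrix (Fin 3) (Fin 3) K) : (um X).det = 1 := by
  rw [um, Matrix.det_reindex_self, Matrix.det_fromBlocks_zero₂₁]
  simp

theorem um_apply (X : Matrix (Fin 3) (Fin 3) K) (i j : Fin 3) :
    um X (s6 (Sum.inl i)) (s6 (Sum.inr j)) = X i j := by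
  rw [um, Matrix.reindex_apply, Matrix.submatrix_apply, Equiv.symm_apply_apply, Equiv.symm_apply_apply,
    Matrix.fromBlocks_apply₁₂]

/-- the embedding into `SL₆` -/
def umHom : Multiplicative (Matrix (Fin 3) (Fin 3) K) →* Matrix.SpecialLinearGroup (Fin 6) K where
  toFun X := ⟨um X.toAdd, um_det _⟩
  map_one' := Subtype.ext um_zero
  map_mul' _ _ := Subtype.ext (um_add _ _)

/-- the embedding into `PSL₆` -/
def umP : Multiplicative (Matrix (Fin 3) (Fin 3) K) →* Matrix.ProjectiveSpecialLinearGroup (Fin 6) K :=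
  (QuotientGroup.mk' _).comp umHom

theorem umP_injective : Function.Injective (umP (K := K)) := by
  rw [injective_iff_map_eq_one]
  intro X hX
  have h1 : umHom X ∈ Subgroup.center (Matrix.SpecialLinearGroup (Fin 6) K) := (QuotientGroup.eq_one_iff _).1 hX
  rw [Matrix.SpecialLinearGroup.mem_center_iff] at h1
  obtain ⟨r, -, hr⟩ := h1
  apply Multiplicative.toAdd.injective
  have key : ∀ i j, (Multiplicative.toAdd X : Matrix (Fin 3) (Fin 3) K) i j = 0 := by
    intro i j
    have h2 := congrFun (congrFun hr (s6 (Sum.inl i))) (s6 (Sum.inr j))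
    change _ = um (Multiplicative.toAdd X) _ _ at h2
    rw [um_apply] at h2
    rw [← h2, Matrix.scalar_apply, Matrix.diagonal_apply_ne]
    intro e
    have := s6.injective e
    simp at this
  exact Matrix.ext key

theorem um_sq [CharP K 2] (X : Multiplicative (Matrix (Fin 3) (Fin 3) K)) : X * X = 1 := by
  apply Multiplicative.toAdd.injective
  change X.toAdd + X.toAdd = 0
  ext i j
  exact CharTwo.add_self_eq_zero _

theorem um_card [Finite K] : 64 < Nat.card (Multiplicative (Matrix (Fin 3) (Fin 3) K)) := by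
  have h1 : Nat.card (Multiplicative (Matrix (Fin 3) (Fin 3) K)) = Nat.card K ^ 9 := by
    change Nat.card (Fin 3 → Fin 3 → K) = _
    rw [Nat.card_fun, Nat.card_fun, Nat.card_eq_fintype_card (α := Fin 3), Fintype.card_fin, ← pow_mul]
  rw [h1]
  have h2 : 2 ≤ Nat.card K := Finite.one_lt_card
  calc 64 < 2 ^ 9 := by norm_num
    _ ≤ Nat.card K ^ 9 := Nat.pow_le_pow_left h2 9

end Cfsg.Agent.H296.FN
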