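import Cfsg.Agent.H296.FN.Deg

/-!
# S5745: degree bound for `PSp₈(2^k)` (helper296)
-/

set_option autoImplicit false

namespace Cfsg.Agent.H296.FN

open Module Cfsg ClassicalGeometry.SympBasic Cfsg.Agent.H74.Psp

variable (K : Type*) [Field K] [CharP K 2]

theorem zE_not_central : ∃ g, zE K 1 * g ≠ g * zE K 1 := by
  by_contra hcon
  push Not at hcon
  have hw : (Pi.single (Sum.inr 0) 1 : Fin 4 ⊕ Fin 4 → K) ≠ 0 := by
    intro e
    have := congrFun e (Sum.inr 0)
    simp at this
  obtain ⟨a, ha, h⟩ := center_line (hB K) hw hcon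
  unfold zE at h
  rw [E_smul (hB K) (map_zero _)] at h
  have hb : sympBilin 4 K (Pi.single (Sum.inr 0) 1) (e0 K) ≠ 0 := by
    rw [sympBilin_apply, e0, sympForm_eq_sum, Fin.sum_univ_four]
    simp
  have h1 := congrFun h (Sum.inl 0)
  simp only [e0, map_one, Pi.add_apply, Pi.smul_apply, smul_eq_mul, Pi.single_apply, smul_zero, map_zero,
    zero_smul, add_zero] at h1
  apply hb
  simpa [e0] using h1

/-- **degree of `PSp₈(2^k)`** -/
theorem psp_deg {k V : Type*} [Field k] [AddCommGroup V] [Module k V] [FiniteDimensional k V] (h2 : (2 : k) ≠ 0)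
    (ψ : PSp 4 K →* Module.End k V) (hψ : Function.Injective ψ) : 28 ≤ finrank k V := by
  let f : Sp (sympBilin 4 K) ≃* Matrix.symplecticGroup (Fin 4) K :=
    (MulEquiv.ofBijective (toSp 4) (toSp_bijective 4)).symm
  apply deg_ge K h2 ((ψ.comp (QuotientGroup.mk' _)).comp f.toMonoidHom)
  intro e
  obtain ⟨g, hg⟩ := zE_not_central K
  apply hg
  have h1 : (QuotientGroup.mk' (Subgroup.center (Matrix.symplecticGroup (Fin 4) K))) (f (zE K 1)) = 1 := by
    apply hψ
    rw [map_one]
    exact e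
  have h3 : f (zE K 1) ∈ Subgroup.center (Matrix.symplecticGroup (Fin 4) K) :=
    (QuotientGroup.eq_one_iff _).1 h1
  apply f.injective
  rw [map_mul, map_mul]
  exact (Subgroup.mem_center_iff.1 h3 (f g)).symm

end Cfsg.Agent.H296.FN
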